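import Mathlib.GroupTheory.Nilpotent
import Mathlib.GroupTheory.Sylow
import Mathlib.Data.Set.Finite.Lemmas
import Cfsg.Agent.LAE65.Subnormal
import Cfsg.Agent.Lib.Solvable.Conj

/-!
Zipper-type lemmas for families of subnormal subgroups closed under conjugation.
-/

set_option autoImplicit false

namespace Cfsg.Agent.SolvableStructure

open Subgroup
open scoped Pointwise

variable {G : Type*} [Group G] [Finite G]

theorem isSubnormal_sSup_subgroupOf (M : Subgroup G) (S : Set (Subgroup G))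
    (hle : ∀ U ∈ S, U ≤ M) (hS : ∀ U ∈ S, (U.subgroupOf M).IsSubnormal) :
    ((sSup S).subgroupOf M).IsSubnormal := by
  have hfin : S.Finite := Set.toFinite S
  revert hle hS
  induction S, hfin using Set.Finite.induction_on with
  | empty => intro _ _; simp
  | @insert U T _ _ ih =>
    intro hle hS
    rw [sSup_insert, subgroupOf_sup (hle U (Set.mem_insert U T))
      (sSup_le fun V hV => hle V (Set.mem_insert_of_mem U hV))]
    exact Cfsg.Agent.LAE65.isSubnormal_sup (hS U (Set.mem_insert U T))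
      (ih (fun V hV => hle V (Set.mem_insert_of_mem U hV))
        (fun V hV => hS V (Set.mem_insert_of_mem U hV)))

theorem le_normalizer_sSup_of_closed (M : Subgroup G) (S : Set (Subgroup G))
    (h : ∀ U ∈ S, ∀ g ∈ M, MulAut.conj g • U ∈ S) :
    M ≤ normalizer ((sSup S : Subgroup G) : Set G) := by
  intro g hg
  have hle : ∀ g ∈ M, MulAut.conj g • (sSup S : Subgroup G) ≤ sSup S := by
    intro g hg
    rw [pointwise_smul_subset_iff]
    refine sSup_le fun U hU => ?_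
    rw [← pointwise_smul_subset_iff]
    exact le_sSup (h U hU g hg)
  have heq := Cfsg.Agent.Solvable.eq_of_le_of_card_le (hle g hg)
    (Cfsg.Agent.Solvable.card_conj_smul g _).ge
  rw [mem_normalizer_iff'']
  intro y
  rw [← Cfsg.Agent.Solvable.mem_conj_smul, heq]

/-- Let `S` be a family of subnormal subgroups of `M`, closed under conjugation by `M`, and `S₀` a
proper subfamily. Some member outside `S₀` normalizes the join of `S₀`. -/
theorem exists_mem_le_normalizer_sSup (M : Subgroup G) (S S₀ : Set (Subgroup G))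
    (hle : ∀ U ∈ S, U ≤ M) (hS : ∀ U ∈ S, (U.subgroupOf M).IsSubnormal)
    (hconj : ∀ U ∈ S, ∀ g ∈ M, MulAut.conj g • U ∈ S) (h₀ : S₀ ⊂ S) :
    ∃ X ∈ S, X ∉ S₀ ∧ X ≤ normalizer ((sSup S₀ : Subgroup G) : Set G) := by
  induction hk : Nat.card M using Nat.strong_induction_on generalizing M S with
  | _ k ih =>
  obtain ⟨X, hX, hX₀⟩ := Set.exists_of_ssubset h₀
  set J := sSup S₀ with hJ
  have hJM : J ≤ M := sSup_le fun U hU => hle U (h₀.1 hU)
  rcases (isSubnormal_sSup_subgroupOf M S₀ (fun U hU => hle U (h₀.1 hU))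
    (fun U hU => hS U (h₀.1 hU))).lt_normal with h | ⟨N, hN, hJN, hNlt⟩
  · exact ⟨X, hX, hX₀, (hle X hX).trans ((subgroupOf_eq_top.1 h).trans le_normalizer)⟩
  set N' := N.map M.subtype with hN'
  have hJN' : J ≤ N' := by
    have := map_mono (f := M.subtype) hJN
    rwa [map_subgroupOf_eq_of_le hJM] at this
  have hN'M : N' ≤ M := map_subtype_le N
  have hN'n : ∀ g ∈ M, MulAut.conj g • N' = N' := by
    intro g hg
    show MulAut.conj (M.subtype ⟨g, hg⟩) • N' = N'
    rw [hN', ← Cfsg.Agent.Solvable.map_conj_smul, Normal.conj_smul_eq_self]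
  set T := {U | U ∈ S ∧ U ≤ N'} with hT
  have hTc : ∀ U ∈ T, ∀ g ∈ M, MulAut.conj g • U ∈ T := fun U hU g hg =>
    ⟨hconj U hU.1 g hg, hN'n g hg ▸ pointwise_smul_le_pointwise_smul_iff.2 hU.2⟩
  have hsub : S₀ ⊆ T := fun U hU => ⟨h₀.1 hU, (le_sSup hU).trans hJN'⟩
  by_cases heq : S₀ = T
  · exact ⟨X, hX, hX₀, (hle X hX).trans
      (le_normalizer_sSup_of_closed M S₀ (heq ▸ hTc))⟩
  have hlt : Nat.card N' < k := by
    rw [← hk, hN', card_map_of_injective M.subtype_injective]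
    exact lt_of_le_of_ne (card_le_card_group N) fun he => hNlt.ne ((card_eq_iff_eq_top N).1 he)
  obtain ⟨Y, hY, hY₀, hYn⟩ := ih _ hlt N' T (fun U hU => hU.2)
    (fun U hU => (hS U hU.1).comap (inclusion hN'M))
    (fun U hU g hg => hTc U hU g (hN'M hg)) (lt_of_le_of_ne hsub heq) rfl
  exact ⟨Y, hY.1, hY₀, hYn⟩

theorem isSubnormal_of_isNilpotent [Group.IsNilpotent G] (H : Subgroup G) : H.IsSubnormal := by
  induction hk : Nat.card G - Nat.card H using Nat.strong_induction_on generalizing H with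
  | _ k ih =>
  rcases eq_or_ne H ⊤ with rfl | hH
  · exact IsSubnormal.top
  have hlt := Group.normalizerCondition_of_isNilpotent H (lt_top_iff_ne_top.2 hH)
  refine IsSubnormal.step H _ le_normalizer (ih _ ?_ _ rfl) normal_in_normalizer
  have h1 : Nat.card H < Nat.card (normalizer (H : Set G)) :=
    lt_of_not_ge fun h => hlt.ne (Cfsg.Agent.Solvable.eq_of_le_of_card_le hlt.le h)
  have h2 := card_le_card_group (normalizer (H : Set G))
  omega

/-- The uniqueness lemma. -/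
theorem exists_greatest (A : Subgroup G) (U : Set (Subgroup G)) (hU : U.Nonempty)
    (S : Subgroup G → Set (Subgroup G))
    (hS : ∀ V B : Subgroup G, B ∈ S V ↔
      (∃ g : G, B = MulAut.conj g • A) ∧ B ≤ V ∧ (B.subgroupOf V).IsSubnormal)
    (h2 : ∀ V ∈ U, ∀ W ∈ U, ∀ B ∈ S W, B ≤ V → B ∈ S V)
    (h3 : ∀ V ∈ U, ∀ W ∈ U, ∃ X ∈ U,
      normalizer ((sSup (S V ∩ S W) : Subgroup G) : Set G) ≤ X) :
    ∃ M ∈ U, ∀ V ∈ U, V ≤ M := by
  have hclosed : ∀ V : Subgroup G, ∀ B ∈ S V, ∀ g ∈ V, MulAut.conj g • B ∈ S V := by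
    intro V B hB g hg
    obtain ⟨⟨a, ha⟩, hBV, hsn⟩ := (hS V B).1 hB
    refine (hS V _).2 ⟨⟨g * a, by rw [ha, Cfsg.Agent.Solvable.conj_smul_mul]⟩,
      conj_smul_le_of_le hBV ⟨g, hg⟩, ?_⟩
    have h' : (MulAut.conj g • B).subgroupOf V =
        MulAut.conj (⟨g, hg⟩ : V) • (B.subgroupOf V) := (conj_smul_subgroupOf hBV ⟨g, hg⟩).symm
    rw [h']
    exact hsn.smul _
  by_contra hcon
  push Not at hcon
  -- maximal members
  have hmax : ∀ X ∈ U, ∃ M, X ≤ M ∧ Maximal (· ∈ U) M := fun X hX =>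
    Finite.exists_le_maximal (p := fun Y => Y ∈ U) hX
  obtain ⟨X₀, hX₀⟩ := hU
  obtain ⟨V₀, -, hV₀⟩ := hmax X₀ hX₀
  obtain ⟨Z, hZ, hZn⟩ := hcon V₀ hV₀.1
  obtain ⟨W₀, hZW₀, hW₀⟩ := hmax Z hZ
  obtain ⟨⟨V, W⟩, ⟨hV, hW, hne⟩, hmx⟩ := Set.exists_max_image
    {P : Subgroup G × Subgroup G | Maximal (· ∈ U) P.1 ∧ Maximal (· ∈ U) P.2 ∧ P.1 ≠ P.2}
    (fun P => (S P.1 ∩ S P.2).ncard) (Set.toFinite _)
    ⟨(V₀, W₀), hV₀, hW₀, fun he => hZn ((show V₀ = W₀ from he) ▸ hZW₀)⟩
  simp only at hV hW hne hmx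
  set J := sSup (S V ∩ S W) with hJ
  obtain ⟨X, hX, hNX⟩ := h3 V hV.1 W hW.1
  rw [← hJ] at hNX
  -- the normalizer of the join lies in every maximal pair member
  have key : ∀ P : Subgroup G, Maximal (· ∈ U) P → S V ∩ S W ⊆ S P →
      normalizer (J : Set G) ≤ P := by
    intro P hP hTP
    obtain ⟨X', hXX', hX'⟩ := hmax X hX
    suffices hX'P : X' = P by exact hX'P ▸ hNX.trans hXX'
    by_cases hTS : S V ∩ S W = S P
    · have h1 : P ≤ normalizer (J : Set G) := by
        rw [hJ, hTS]; exact le_normalizer_sSup_of_closed P (S P) (hclosed P)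
      exact le_antisymm (hP.2 hX'.1 ((h1.trans hNX).trans hXX')) ((h1.trans hNX).trans hXX')
    · obtain ⟨B, hB, hBT, hBn⟩ := exists_mem_le_normalizer_sSup P (S P) (S V ∩ S W)
        (fun B hB => ((hS P B).1 hB).2.1) (fun B hB => ((hS P B).1 hB).2.2) (hclosed P)
        (lt_of_le_of_ne hTP hTS)
      by_contra hne'
      have hBX : B ≤ X' := (hBn.trans hNX).trans hXX'
      have hsub : insert B (S V ∩ S W) ⊆ S X' ∩ S P := by
        refine Set.insert_subset ⟨h2 X' hX'.1 P hP.1 B hB hBX, hB⟩ fun C hC => ⟨?_, hTP hC⟩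
        exact h2 X' hX'.1 P hP.1 C (hTP hC)
          ((((le_sSup hC).trans le_normalizer).trans hNX).trans hXX')
      have h1 := hmx (X', P) ⟨hX', hP, hne'⟩
      have h2' := Set.ncard_le_ncard hsub (Set.toFinite _)
      rw [Set.ncard_insert_of_notMem hBT (Set.toFinite _)] at h2'
      simp only at h1
      omega
  have hNV := key V hV Set.inter_subset_left
  have hNW := key W hW Set.inter_subset_right
  by_cases hTW : S V ∩ S W = S W
  · have h1 : W ≤ normalizer (J : Set G) := by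
      rw [hJ, hTW]; exact le_normalizer_sSup_of_closed W (S W) (hclosed W)
    exact hne (le_antisymm (hW.2 hV.1 (h1.trans hNV)) (h1.trans hNV))
  · obtain ⟨B, hB, hBT, hBn⟩ := exists_mem_le_normalizer_sSup W (S W) (S V ∩ S W)
      (fun B hB => ((hS W B).1 hB).2.1) (fun B hB => ((hS W B).1 hB).2.2) (hclosed W)
      (lt_of_le_of_ne Set.inter_subset_right hTW)
    exact hBT ⟨h2 V hV.1 W hW.1 B hB (hBn.trans hNV), hB⟩

/-- Matsuyama's lemma. -/
theorem exists_sylow_weakClosure_normalized (p : ℕ) [Fact p.Prime] (Z Y : Subgroup G)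
    (h : ∀ g : G, IsPGroup p ↥(⨆ y ∈ Y, MulAut.conj (y * g) • Z)) :
    ∃ P : Sylow p G, Y ≤ normalizer ((⨆ g ∈ {g : G | MulAut.conj g • Z ≤ (P : Subgroup G)},
      MulAut.conj g • Z : Subgroup G) : Set G) := by
  set C : Set (Subgroup G) := Set.range (fun g : G => MulAut.conj g • Z) with hC
  obtain ⟨T, ⟨hTC, hTY, hTp⟩, hmax⟩ := Set.Finite.exists_maximal
    (s := {T : Set (Subgroup G) | T ⊆ C ∧ (∀ U ∈ T, ∀ y ∈ Y, MulAut.conj y • U ∈ T) ∧
      IsPGroup p ↥(sSup T)}) (Set.toFinite _)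
    ⟨∅, Set.empty_subset _, fun U hU => absurd hU (Set.notMem_empty U), by
      rw [sSup_empty]; exact IsPGroup.of_bot⟩
  obtain ⟨P, hP⟩ := hTp.exists_le_sylow
  set S : Set (Subgroup G) := {U | U ∈ C ∧ U ≤ (P : Subgroup G)} with hS
  have hTS : T ⊆ S := fun U hU => ⟨hTC hU, (le_sSup hU).trans hP⟩
  have hSeq : T = S := by
    by_contra hne
    haveI := P.isPGroup'.isNilpotent
    obtain ⟨X, ⟨⟨g, hg⟩, hXP⟩, hXT, hXn⟩ := exists_mem_le_normalizer_sSup (P : Subgroup G) S T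
      (fun U hU => hU.2) (fun U _ => isSubnormal_of_isNilpotent _)
      (by
        rintro U ⟨⟨a, rfl⟩, hU⟩ y hy
        exact ⟨⟨y * a, Cfsg.Agent.Solvable.conj_smul_mul y a Z⟩,
          conj_smul_le_of_le hU ⟨y, hy⟩⟩)
      (lt_of_le_of_ne hTS hne)
    have hg' : MulAut.conj g • Z = X := hg
    set W := sSup T with hW
    have hYW : Y ≤ normalizer (W : Set G) := le_normalizer_sSup_of_closed Y T hTY
    set O : Set (Subgroup G) := Set.range (fun y : Y => MulAut.conj ((y : G) * g) • Z) with hO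
    have hOeq : sSup O = ⨆ y ∈ Y, MulAut.conj (y * g) • Z := by
      rw [hO, sSup_range, iSup_subtype (p := (· ∈ Y))
        (f := fun y : Y => MulAut.conj ((y : G) * g) • Z)]
    have hOn : sSup O ≤ normalizer (W : Set G) := by
      refine sSup_le ?_
      rintro _ ⟨y, rfl⟩
      show MulAut.conj ((y : G) * g) • Z ≤ _
      rw [Cfsg.Agent.Solvable.conj_smul_mul, hg']
      exact (pointwise_smul_le_pointwise_smul_iff.2 hXn).trans
        (conj_smul_le_of_le le_rfl ⟨(y : G), hYW y.2⟩)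
    have hp : IsPGroup p ↥(sSup (T ∪ O)) := by
      rw [sSup_union, ← hW, sup_comm]
      exact IsPGroup.to_sup_of_normal_right' (by rw [hOeq]; exact h g) hTp hOn
    refine hXT (hmax ⟨Set.union_subset hTC ?_, ?_, hp⟩ Set.subset_union_left
      (Or.inr ⟨⟨1, one_mem Y⟩, ?_⟩))
    · rintro _ ⟨y, rfl⟩; exact ⟨(y : G) * g, rfl⟩
    · rintro U (hU | ⟨y, rfl⟩) z hz
      · exact Or.inl (hTY U hU z hz)
      · exact Or.inr ⟨⟨z * y, Y.mul_mem hz y.2⟩, by
          show MulAut.conj ((z * (y : G)) * g) • Z = _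
          rw [mul_assoc, Cfsg.Agent.Solvable.conj_smul_mul]⟩
    · show MulAut.conj ((1 : G) * g) • Z = X
      rw [one_mul, hg']
  refine ⟨P, ?_⟩
  have heq : (⨆ g ∈ {g : G | MulAut.conj g • Z ≤ (P : Subgroup G)}, MulAut.conj g • Z) = sSup S := by
    refine le_antisymm (iSup₂_le fun g hg => le_sSup ⟨⟨g, rfl⟩, hg⟩) (sSup_le ?_)
    rintro _ ⟨⟨g, rfl⟩, hg⟩
    exact le_iSup₂ (f := fun g (_ : g ∈ {g : G | MulAut.conj g • Z ≤ (P : Subgroup G)}) =>
      MulAut.conj g • Z) g hg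
  rw [heq, ← hSeq]
  exact le_normalizer_sSup_of_closed Y T hTY

end Cfsg.Agent.SolvableStructure
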